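import Groth.Agent.FormKer.Local

/-!
Kernels in the category of coherent formal modules.
-/

set_option autoImplicit false
set_option backward.isDefEq.respectTransparency false
set_option backward.isDefEq.respectTransparency.types false
set_option linter.style.haveILetI false
set_option maxHeartbeats 1000000

universe u

open CategoryTheory CategoryTheory.Limits AlgebraicGeometry TopologicalSpace Opposite
open Groth.Agent.QC (res appₗ)
open Groth.Agent.W7Exist (tn trG trG_comp trG_self exists_desc_of_epi exists_desc_modPow isCohFormal_of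
  epi_of_surjective hom_eq_zero_of_cover exists_desc_trG exists_desc)
open Groth.Agent.W7Cech (smulMod_natural)

noncomputable section

namespace Groth.Agent.FormKer

variable {A : Type u} [CommRing A] {X : Scheme.{u}} [X.Over (Spec (CommRingCat.of A))] {I : Ideal A}
  {F G : ℕᵒᵖ ⥤ X.Modules} (β : F ⟶ G) (c : ℕ)

/-- The map from the kernel further out. -/
def φ (n : ℕ) : kernel (β.app (op (n + c))) ⟶ F.obj (op n) :=
  kernel.ι (β.app (op (n + c))) ≫ trG F (Nat.le_add_right n c)

/-- Its image. -/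
abbrev S (n : ℕ) : X.Modules := Abelian.image (φ β c n)

abbrev ιS (n : ℕ) : S β c n ⟶ F.obj (op n) := Abelian.image.ι (φ β c n)

abbrev pS (n : ℕ) : kernel (β.app (op (n + c))) ⟶ S β c n := Abelian.factorThruImage (φ β c n)

@[reassoc]
lemma pS_ι (n : ℕ) : pS β c n ≫ ιS β c n = φ β c n := Abelian.image.fac _

/-- The transition between kernels. -/
def kt (n : ℕ) : kernel (β.app (op (n + 1 + c))) ⟶ kernel (β.app (op (n + c))) :=
  kernel.map _ _ (trG F (show n + c ≤ n + 1 + c by omega)) (trG G (show n + c ≤ n + 1 + c by omega))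
    (β.naturality _).symm

lemma kt_φ (n : ℕ) : kt β c n ≫ φ β c n = φ β c (n + 1) ≫ tn F n := by
  simp only [kt, φ, kernel.lift_ι_assoc, Category.assoc]
  rw [trG_comp]
  exact congrArg (kernel.ι _ ≫ ·) (trG_comp F _ (Nat.le_succ n)).symm

/-- The transition between images. -/
def sS (n : ℕ) : S β c (n + 1) ⟶ S β c n :=
  kernel.lift _ (ιS β c (n + 1) ≫ tn F n) (by
    rw [← cancel_epi (pS β c (n + 1)), Category.assoc, pS_ι_assoc, ← Category.assoc, ← kt_φ, Category.assoc,
      cokernel.condition, comp_zero, comp_zero])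

@[reassoc]
lemma sS_ι (n : ℕ) : sS β c n ≫ ιS β c n = ιS β c (n + 1) ≫ tn F n := kernel.lift_ι _ _ _

lemma pS_sS (n : ℕ) : pS β c (n + 1) ≫ sS β c n = kt β c n ≫ pS β c n := by
  rw [← cancel_mono (ιS β c n), Category.assoc, sS_ι, pS_ι_assoc, Category.assoc, pS_ι,
    kt_φ]

variable (hF : Formal.IsCohFormal I F) (hG : Formal.IsCohFormal I G)
include hF hG

lemma isQCoh_S [IsLocallyNoetherian X] (n : ℕ) : Coh.IsQCoh (S β c n) :=
  QC.isQCoh_kernel (hF.1 n).1
    (QC.isQCoh_cokernel (QC.isQCoh_kernel (hF.1 _).1 (hG.1 _).1 _) (hF.1 n).1 _) _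

variable {κ : Type u} (V : κ → X.Opens) (hV : ∀ i, IsAffineOpen (V i)) (hcov : ∀ x : X, ∃ i, x ∈ V i)
  (hloc : ∀ k, (∀ n (x : Γ(F.obj (op (n + c)), V k)), (β.app (op (n + c))).app (V k) x = 0 →
        ∃ y, IsKerFam β (V k) y ∧ (trG F (Nat.le_add_right n c)).app (V k) x = y n) ∧
      ∀ n y, IsKerFam β (V k) y → y (n + c) = 0 → ∀ i, y i ∈ ((I.map (W7Cech.secRing A (V k))) ^ (n + 1)) •
        Submodule.span Γ(X, V k) {w : Γ(F.obj (op i), V k) | ∃ z, IsKerFam β (V k) z ∧ z i = w})

include hV hloc in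
/-- Sections of the images over the cover come from kernel families. -/
lemma exists_fam [IsLocallyNoetherian X] (n : ℕ) (k : κ) (s : Γ(S β c n, V k)) :
    ∃ y, IsKerFam β (V k) y ∧ (ιS β c n).app (V k) s = y n := by
  obtain ⟨w, rfl⟩ := QC.app_surjective_of_epi (hV k) (QC.isQCoh_kernel (hF.1 _).1 (hG.1 _).1 _)
    (isQCoh_S β c hF hG n) (pS β c n) s
  obtain ⟨y, hy, e⟩ := (hloc k).1 n ((kernel.ι (β.app (op (n + c)))).app (V k) w)
    (congr(($(kernel.condition (β.app (op (n + c))))).app (V k) w))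
  exact ⟨y, hy, (congr(($(Abelian.image.fac (φ β c n))).app (V k) w)).trans e⟩

omit hF hG in
/-- Kernel families give sections of the images. -/
lemma exists_sec {k : κ} {y : ∀ i, Γ(F.obj (op i), V k)} (hy : IsKerFam β (V k) y) (n : ℕ) :
    ∃ s : Γ(S β c n, V k), (ιS β c n).app (V k) s = y n := by
  obtain ⟨w, hw⟩ := (QC.mem_range_kernel_app (β.app (op (n + c))) (V k) (y (n + c))).2 (hy.2 _)
  refine ⟨(pS β c n).app (V k) w, ?_⟩
  refine (congr(($(Abelian.image.fac (φ β c n))).app (V k) w)).trans ?_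
  change (trG F (Nat.le_add_right n c)).app (V k) ((kernel.ι (β.app (op (n + c)))).app (V k) w) = y n
  rw [hw, hy.tr]

include hV hcov hloc in
lemma epi_sS [IsLocallyNoetherian X] (n : ℕ) : Epi (sS β c n) := by
  refine epi_of_surjective V hV hcov (isQCoh_S β c hF hG _) (isQCoh_S β c hF hG _) _ fun k s => ?_
  obtain ⟨y, hy, e⟩ := exists_fam β c hF hG V hV hloc n k s
  obtain ⟨s', hs'⟩ := exists_sec β c V hy (n + 1)
  refine ⟨s', QC.app_injective_of_mono (ιS β c n) (V k) ?_⟩
  refine (congr(($(sS_ι β c n)).app (V k) s')).trans ?_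
  change (tn F n).app (V k) ((ιS β c (n + 1)).app (V k) s') = _
  rw [hs', hy.1 n, e]

include hV hcov hloc in
lemma kernel_sS_π [IsLocallyNoetherian X] (n : ℕ) :
    kernel.ι (sS β c (n + c)) ≫ Formal.modPowπ I (n + 1) (S β c (n + c + 1)) = 0 := by
  refine hom_eq_zero_of_cover V hV hcov (QC.isQCoh_kernel (isQCoh_S β c hF hG _) (isQCoh_S β c hF hG _) _) _
    fun k z => ?_
  let s := (kernel.ι (sS β c (n + c))).app (V k) z
  have hs : (sS β c (n + c)).app (V k) s = 0 := congr(($(kernel.condition (sS β c (n + c)))).app (V k) z)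
  change (Formal.modPowπ I (n + 1) (S β c (n + c + 1))).app (V k) s = 0
  rw [W7Rees.π_app_eq_zero_iff I (isQCoh_S β c hF hG _) (hV k)]
  obtain ⟨y, hy, e⟩ := exists_fam β c hF hG V hV hloc (n + c + 1) k s
  have hy0 : y (n + c) = 0 := by
    rw [← hy.1 (n + c), ← e]
    refine (congr(($(sS_ι β c (n + c))).app (V k) s)).symm.trans ?_
    change (ιS β c (n + c)).app (V k) ((sS β c (n + c)).app (V k) s) = 0
    rw [hs, map_zero]
  have h := (hloc k).2 n y hy hy0 (n + c + 1)
  rw [← e] at h
  let ι' := appₗ (ιS β c (n + c + 1)) (V k)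
  have hle : Submodule.span Γ(X, V k) {w : Γ(F.obj (op (n + c + 1)), V k) | ∃ z, IsKerFam β (V k) z ∧ z (n + c + 1) = w} ≤
      LinearMap.range ι' := Submodule.span_le.2 fun w ⟨u, hu, huw⟩ => by
    obtain ⟨s', hs'⟩ := exists_sec β c V hu (n + c + 1)
    exact ⟨s', hs'.trans huw⟩
  have h' := Submodule.smul_mono le_rfl hle h
  rw [LinearMap.range_eq_map, ← Submodule.map_smul''] at h'
  obtain ⟨s', hs', he⟩ := h'
  rwa [← QC.app_injective_of_mono (ιS β c (n + c + 1)) (V k) he]

omit hF hG in
/-- The kernel system. -/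
abbrev E (I : Ideal A) (n : ℕ) : X.Modules := Formal.modPow I (n + 1) (S β c (n + c))

omit hF hG in
abbrev πE (I : Ideal A) (n : ℕ) : S β c (n + c) ⟶ E β c I n := Formal.modPowπ I (n + 1) (S β c (n + c))

omit hF hG in
/-- The shifted transition. -/
abbrev sE (n : ℕ) : S β c (n + 1 + c) ⟶ S β c (n + c) :=
  eqToHom (by rw [show n + 1 + c = n + c + 1 by omega]) ≫ sS β c (n + c)

omit hF hG in
lemma eqToHom_ι {a b : ℕ} (h : a = b) (he : S β c a = S β c b) :
    eqToHom he ≫ ιS β c b = ιS β c a ≫ trG F h.ge := by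
  subst h
  rw [trG_self, Category.comp_id, eqToHom_refl, Category.id_comp]

omit hF hG in
lemma sE_ι (n : ℕ) : sE β c n ≫ ιS β c (n + c) = ιS β c (n + 1 + c) ≫ trG F (show n + c ≤ n + 1 + c by omega) := by
  rw [sE, Category.assoc, sS_ι, ← Category.assoc, eqToHom_ι β c (show n + 1 + c = n + c + 1 by omega), Category.assoc]
  exact congrArg (_ ≫ ·) (trG_comp F _ (Nat.le_succ (n + c)))

omit hG in
lemma ιE_exists (n : ℕ) :
    ∃ j : E β c I n ⟶ F.obj (op n), πE β c I n ≫ j = ιS β c (n + c) ≫ trG F (Nat.le_add_right n c) :=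
  exists_desc_modPow I (n + 1) _ fun a ha => by rw [smulMod_natural, hF.2.1 n a ha, comp_zero]

omit hF hG in
lemma E_killed (n : ℕ) : Formal.KilledBy (I ^ (n + 1)) (E β c I n) := fun a ha =>
  W7Exist.π_smulMod I (n + 1) _ a ha

omit hF hG in
lemma tE_exists (n : ℕ) : ∃ t : E β c I (n + 1) ⟶ E β c I n, πE β c I (n + 1) ≫ t = sE β c n ≫ πE β c I n :=
  exists_desc_modPow I (n + 1 + 1) _ fun a ha => by
    rw [smulMod_natural, E_killed β c n a (Ideal.pow_le_pow_right (by omega) ha), comp_zero]

include hV hcov hloc in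
/-- The kernel. -/
theorem exists_kernel [IsLocallyNoetherian X] :
    ∃ (K : ℕᵒᵖ ⥤ X.Modules) (_ : Formal.IsCohFormal I K) (ι : K ⟶ F), ι ≫ β = 0 ∧
      ∀ (T : ℕᵒᵖ ⥤ X.Modules), Formal.IsCohFormal I T → ∀ g : T ⟶ F, g ≫ β = 0 → ∃! l : T ⟶ K, l ≫ ι = g := by
  choose t ht using tE_exists β c (I := I)
  choose j hj using ιE_exists β c hF
  haveI hπ : ∀ n, Epi (πE β c I n) := fun n => by unfold πE Formal.modPowπ; infer_instance
  haveI hse : ∀ n, Epi (sE β c n) := fun n => by
    haveI := epi_sS β c hF hG V hV hcov hloc (n + c)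
    exact epi_comp _ _
  haveI hte : ∀ n, Epi (t n) := fun n => by
    haveI : Epi (sE β c n ≫ πE β c I n) := epi_comp _ _
    exact epi_of_epi_fac (ht n)
  let K := Functor.ofOpSequence t
  have hK : Formal.IsCohFormal I K := by
    refine isCohFormal_of I _ t (fun n => ?_) (E_killed β c) hte fun n => ?_
    · exact QC.isCoh_of_epi (QC.isCoh_of_mono (ιS β c (n + c)) (hF.1 _) (isQCoh_S β c hF hG _))
        (W7Rees.isQCoh_modQuot _ _ (isQCoh_S β c hF hG _)) (πE β c I n)
    · let z := πE β c I (n + 1) ≫ cokernel.π (Formal.smulFamily (I ^ (n + 1)) (E β c I (n + 1)))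
      obtain ⟨z₁, hz₁⟩ := exists_desc_modPow I (n + 1) z fun a ha => by
        rw [← Category.assoc, smulMod_natural, Category.assoc, FormLim.smulMod_cokernel_π _ _ a ha, comp_zero]
      have hk : kernel.ι (sE β c n) ≫ z = 0 := by
        let e : S β c (n + 1 + c) ⟶ S β c (n + c + 1) := eqToHom (by rw [show n + 1 + c = n + c + 1 by omega])
        have hl : kernel.ι (sE β c n) ≫ e ≫ sS β c (n + c) = 0 := kernel.condition (sE β c n)
        have key : ∀ (a b : ℕ) (_ : a = b) (he : S β c a = S β c b),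
            Formal.modPowπ I (n + 1) (S β c a) = eqToHom he ≫ Formal.modPowπ I (n + 1) (S β c b) ≫
              eqToHom (by rw [he]) := by
          intro a b hab he
          subst hab
          simp
        rw [← hz₁, key _ _ (show n + 1 + c = n + c + 1 by omega) (by rw [show n + 1 + c = n + c + 1 by omega])]
        simp only [Category.assoc]
        rw [← Category.assoc, ← kernel.lift_ι (sS β c (n + c)) (kernel.ι (sE β c n) ≫ e) (by rw [Category.assoc, hl]),
          Category.assoc, reassoc_of% (kernel_sS_π β c hF hG V hV hcov hloc n), zero_comp, comp_zero]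
      obtain ⟨z₂, hz₂⟩ := exists_desc_of_epi (sE β c n) z hk
      obtain ⟨w, hw⟩ := exists_desc_modPow I (n + 1) z₂ fun a ha => by
        rw [← cancel_epi (sE β c n), ← Category.assoc, ← smulMod_natural, Category.assoc, hz₂, ← Category.assoc,
          smulMod_natural, Category.assoc, FormLim.smulMod_cokernel_π _ _ a ha, comp_zero, comp_zero]
      refine ⟨w, (cancel_epi (πE β c I (n + 1))).1 ?_⟩
      rw [← Category.assoc, ht, Category.assoc]
      exact (congrArg (sE β c n ≫ ·) hw).trans hz₂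
  have hjn : ∀ n, t n ≫ j n = j (n + 1) ≫ tn F n := fun n => by
    rw [← cancel_epi (πE β c I (n + 1)), ← Category.assoc, ht, Category.assoc, hj, ← Category.assoc, sE_ι,
      Category.assoc, trG_comp, ← Category.assoc (πE β c I (n + 1)), hj, Category.assoc]
    exact congrArg (_ ≫ ·) (trG_comp F _ (Nat.le_succ n)).symm
  let ι : K ⟶ F := NatTrans.ofOpSequence j fun n => by
    rw [Functor.ofOpSequence_map_homOfLE_succ]; exact hjn n
  have hj0 : ∀ n, j n ≫ β.app (op n) = 0 := fun n => by
    rw [← cancel_epi (πE β c I n), comp_zero, ← Category.assoc, hj, ← cancel_epi (pS β c (n + c)), comp_zero,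
      Category.assoc, pS_ι_assoc]
    simp only [φ, Category.assoc]
    rw [reassoc_of% (trG_comp F (show n + c ≤ n + c + c by omega) (Nat.le_add_right n c)),
      β.naturality (homOfLE _).op, kernel.condition_assoc, zero_comp]
  -- separation
  have tTr : ∀ n m (h : n ≤ m), ∃ q : S β c (m + c) ⟶ S β c (n + c),
      q ≫ ιS β c (n + c) = ιS β c (m + c) ≫ trG F (Nat.add_le_add_right h c) ∧
      πE β c I m ≫ trG K h = q ≫ πE β c I n := by
    intro n m h
    induction m, h using Nat.le_induction with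
    | base => exact ⟨𝟙 _, by rw [Category.id_comp, trG_self, Category.comp_id], by
        rw [trG_self, Category.id_comp]; exact Category.comp_id (πE β c I n)⟩
    | succ m h ih =>
      obtain ⟨q, hq, hq'⟩ := ih
      refine ⟨sE β c m ≫ q, ?_, ?_⟩
      · rw [Category.assoc, hq, ← Category.assoc, sE_ι, Category.assoc, trG_comp]
      · rw [← trG_comp K (Nat.le_succ m) h, ← Category.assoc, show trG K (Nat.le_succ m) = t m from
          Functor.ofOpSequence_map_homOfLE_succ _ m, ht, Category.assoc, hq']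
        simp only [sE, Category.assoc]
  have hsep : ∀ n, kernel.ι (j (n + c)) ≫ trG K (Nat.le_add_right n c) = 0 := fun n => by
    obtain ⟨q, hq, hq'⟩ := tTr n (n + c) (Nat.le_add_right n c)
    obtain ⟨T', p, hp, y, hy⟩ := surjective_up_to_refinements_of_epi (πE β c I (n + c)) (kernel.ι (j (n + c)))
    have hy0 : y ≫ q = 0 := by
      rw [← cancel_mono (ιS β c (n + c)), zero_comp, Category.assoc, hq, ← hj (n + c), ← Category.assoc, ← hy,
        Category.assoc, kernel.condition, comp_zero]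
    rw [← cancel_epi p, comp_zero, ← Category.assoc, hy, Category.assoc, hq', ← Category.assoc, hy0, zero_comp]
  refine ⟨K, hK, ι, NatTrans.ext (funext fun ⟨n⟩ => hj0 n), fun T hT g hg => ?_⟩
  have hgn : ∀ n, g.app (op n) ≫ β.app (op n) = 0 := fun n => congr($(hg).app (op n))
  let lS : ∀ n, T.obj (op (n + c)) ⟶ S β c n := fun n => kernel.lift _ (g.app (op (n + c))) (hgn _) ≫ pS β c n
  have hlS : ∀ n, lS n ≫ ιS β c n = trG T (Nat.le_add_right n c) ≫ g.app (op n) := fun n => by
    simp only [lS, Category.assoc, pS_ι, φ, kernel.lift_ι_assoc]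
    exact (g.naturality _).symm
  clear_value lS
  choose l hl using fun n => exists_desc_trG hT (show n ≤ n + c + c by omega) (E_killed β c n)
    (lS (n + c) ≫ πE β c I n)
  have hlι : ∀ n, l n ≫ j n = g.app (op n) := fun n => by
    haveI := W7Exist.epi_trG hT (show n ≤ n + c + c by omega)
    rw [← cancel_epi (trG T (show n ≤ n + c + c by omega)), ← Category.assoc, hl, Category.assoc, hj,
      ← Category.assoc, hlS, Category.assoc, ← trG_comp T (Nat.le_add_right (n + c) c) (Nat.le_add_right n c),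
      Category.assoc]
    exact congrArg (_ ≫ ·) (g.naturality _).symm
  have uniq : ∀ n {P : X.Modules} (l₁ l₂ : P ⟶ K.obj (op (n + c))), l₁ ≫ j (n + c) = l₂ ≫ j (n + c) →
      l₁ ≫ trG K (Nat.le_add_right n c) = l₂ ≫ trG K (Nat.le_add_right n c) := fun n P l₁ l₂ e => by
    rw [← sub_eq_zero, ← Preadditive.sub_comp,
      ← kernel.lift_ι (j (n + c)) (l₁ - l₂) (by rw [Preadditive.sub_comp, e, sub_self]), Category.assoc, hsep, comp_zero]
  let l' : ∀ n, T.obj (op n) ⟶ K.obj (op n) := l
  have hnat : ∀ n, tn T n ≫ l' n = l' (n + 1) ≫ t n := fun n => by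
    haveI := W7Exist.epi_trG hT (show n + 1 ≤ n + 1 + c + c by omega)
    rw [← cancel_epi (trG T (show n + 1 ≤ n + 1 + c + c by omega)), ← Category.assoc, trG_comp,
      ← Category.assoc, hl, Category.assoc, ht,
      ← trG_comp T (show n + c + c ≤ n + 1 + c + c by omega) (show n ≤ n + c + c by omega), Category.assoc, hl,
      ← Category.assoc (lS (n + 1 + c)), ← Category.assoc]
    refine congrArg (· ≫ πE β c I n) ((cancel_mono (ιS β c (n + c))).1 ?_)
    rw [Category.assoc, Category.assoc, hlS, sE_ι, ← Category.assoc (lS (n + 1 + c)), hlS, Category.assoc,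
      ← Category.assoc, trG_comp, ← g.naturality, ← Category.assoc, trG_comp]
  refine ⟨NatTrans.ofOpSequence l' fun n => ?_, NatTrans.ext (funext fun ⟨n⟩ => hlι n), fun l₂ hl₂ => ?_⟩
  · rw [Functor.ofOpSequence_map_homOfLE_succ]; exact hnat n
  · refine NatTrans.ext (funext fun ⟨n⟩ => ?_)
    haveI := W7Exist.epi_trG hT (Nat.le_add_right n c)
    rw [← cancel_epi (trG T (Nat.le_add_right n c))]
    let η := NatTrans.ofOpSequence (F := T) (G := K) l' fun n => by
      rw [Functor.ofOpSequence_map_homOfLE_succ]; exact hnat n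
    show trG T _ ≫ l₂.app (op n) = trG T _ ≫ η.app (op n)
    rw [l₂.naturality, η.naturality]
    exact uniq n _ _ (congr($(hl₂).app (op (n + c))).trans (hlι (n + c)).symm)

end Groth.Agent.FormKer
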