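import Groth.Agent.FormKer.Tower
import Groth.Agent.W7Exist.Sep
import Groth.Agent.FormLim.Principal

/-!
Kernels of maps of coherent formal modules, on affine opens.
-/

set_option autoImplicit false
set_option backward.isDefEq.respectTransparency false
set_option backward.isDefEq.respectTransparency.types false
set_option linter.style.haveILetI false
set_option maxHeartbeats 1000000

universe u

open CategoryTheory CategoryTheory.Limits AlgebraicGeometry TopologicalSpace Opposite
open Groth.Agent.QC (res appₗ)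
open Groth.Agent.W7Exist (tn trG trG_comp trG_self app_trG_surjective tn_app_eq_zero_iff smul_eq_zero_of_killedBy)

noncomputable section

namespace Groth.Agent.FormKer

variable {A : Type u} [CommRing A] {X : Scheme.{u}} [X.Over (Spec (CommRingCat.of A))] {I : Ideal A}
  {F G : ℕᵒᵖ ⥤ X.Modules}

/-- A compatible family of sections killed by the map. -/
def IsKerFam (β : F ⟶ G) (V : X.Opens) (y : ∀ i, Γ(F.obj (op i), V)) : Prop :=
  (∀ i, (tn F i).app V (y (i + 1)) = y i) ∧ ∀ i, (β.app (op i)).app V (y i) = 0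

lemma IsKerFam.tr {β : F ⟶ G} {V : X.Opens} {y : ∀ i, Γ(F.obj (op i), V)} (h : IsKerFam β V y) {n m : ℕ}
    (hnm : n ≤ m) : (trG F hnm).app V (y m) = y n := by
  induction m, hnm using Nat.le_induction with
  | base => rw [trG_self]; rfl
  | succ m hm ih =>
    rw [← trG_comp F (Nat.le_succ m) hm]
    change (trG F hm).app V ((tn F m).app V (y (m + 1))) = _
    rw [h.1 m, ih]

variable (hF : Formal.IsCohFormal I F) (hG : Formal.IsCohFormal I G) (β : F ⟶ G)
include hF hG

/-- On an affine open the kernels stabilise, with an Artin–Rees bound. -/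
theorem exists_local [IsLocallyNoetherian X] {V : X.Opens} (hV : IsAffineOpen V) :
    ∃ c, ∀ d, c ≤ d →
      (∀ n (x : Γ(F.obj (op (n + d)), V)), (β.app (op (n + d))).app V x = 0 →
        ∃ y, IsKerFam β V y ∧ (trG F (Nat.le_add_right n d)).app V x = y n) ∧
      ∀ n y, IsKerFam β V y → y (n + d) = 0 → ∀ i, y i ∈ ((I.map (W7Cech.secRing A V)) ^ (n + 1)) •
        Submodule.span Γ(X, V) {w : Γ(F.obj (op i), V) | ∃ z, IsKerFam β V z ∧ z i = w} := by
  classical
  let U : X.affineOpens := ⟨V, hV⟩
  haveI : IsNoetherianRing Γ(X, V) := IsLocallyNoetherian.component_noetherian U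
  obtain ⟨c, h1, h2⟩ := exists_kernel_tower (R := Γ(X, V)) (I.map (W7Cech.secRing A V))
    (fun n => Γ(F.obj (op n), V)) (fun n => Γ(G.obj (op n), V)) (fun n => appₗ (tn F n) V) (fun n => appₗ (tn G n) V)
    (fun n => app_trG_surjective hF (Nat.le_succ n) hV) (fun n => app_trG_surjective hG (Nat.le_succ n) hV)
    (fun n => SetLike.ext fun s => LinearMap.mem_ker.trans (tn_app_eq_zero_iff hF n hV s))
    (fun n => SetLike.ext fun s => LinearMap.mem_ker.trans (tn_app_eq_zero_iff hG n hV s))
    (fun n a ha x => smul_eq_zero_of_killedBy (hF.2.1 n) V a (by rwa [Ideal.map_pow]) x)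
    (fun n a ha x => smul_eq_zero_of_killedBy (hG.2.1 n) V a (by rwa [Ideal.map_pow]) x)
    (fun n => (QC.isCoh_iff_finite_sections.1 (hF.1 n)).2 U)
    (fun n => (QC.isCoh_iff_finite_sections.1 (hG.1 n)).2 U)
    (fun n => appₗ (β.app (op n)) V)
    (fun n x => (congr(($(β.naturality (homOfLE (Nat.le_succ n)).op)).app V x)).symm)
  refine ⟨c, fun d hd => ⟨fun n x hx => ?_, fun n y hy hy0 i => ?_⟩⟩
  · have hx' : (β.app (op (n + c))).app V ((trG F (Nat.add_le_add_left hd n)).app V x) = 0 := by
      refine (congr(($(β.naturality (homOfLE (Nat.add_le_add_left hd n)).op)).app V x)).trans ?_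
      change (trG G (Nat.add_le_add_left hd n)).app V ((β.app (op (n + d))).app V x) = 0
      rw [hx, map_zero]
    obtain ⟨y, hy, hyβ, hyn⟩ := h1 n _ hx'
    refine ⟨y, ⟨hy, hyβ⟩, ?_⟩
    obtain ⟨z, hz, hzx⟩ := W7Exist.exists_compatible_seq (n + d) (fun i => (Γ(F.obj (op i), V) : Type u))
      (fun i => (tn F i).app V) (fun i => app_trG_surjective hF (Nat.le_succ i) hV) x
    have hred : ∀ a b (h : a ≤ b), (trG F h).app V (z b) = z a := fun a b h => by
      induction b, h using Nat.le_induction with
      | base => rw [trG_self]; rfl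
      | succ b h ih =>
        rw [← trG_comp F (Nat.le_succ b) h]
        change (trG F h).app V ((tn F b).app V (z (b + 1))) = _
        rw [hz b, ih]
    rw [hyn z hz (by rw [← hzx, hred]), ← hzx, hred]
  · refine Submodule.smul_mono le_rfl (Submodule.span_mono ?_) (h2 n y hy.1 hy.2 ?_ i)
    · rintro w ⟨z, h1, h2, h3⟩
      exact ⟨z, ⟨h1, h2⟩, h3⟩
    rw [← hy.tr (Nat.add_le_add_left hd n), hy0, map_zero]

end Groth.Agent.FormKer
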