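import Groth.Agent.W7Exist.LimAlg

/-!
Kernels of maps of adic towers: stable images and Artin–Rees.
-/

set_option autoImplicit false
set_option backward.isDefEq.respectTransparency false
set_option linter.style.haveILetI false
set_option maxHeartbeats 1000000

universe u

noncomputable section

namespace Groth.Agent.FormKer

/-- Stable images and Artin–Rees for kernels of maps of adic towers. -/
theorem exists_kernel_tower {R : Type u} [CommRing R] [IsNoetherianRing R] (J : Ideal R)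
    (M M' : ℕ → Type u) [∀ n, AddCommGroup (M n)] [∀ n, Module R (M n)] [∀ n, AddCommGroup (M' n)]
    [∀ n, Module R (M' n)] (f : ∀ n, M (n + 1) →ₗ[R] M n) (f' : ∀ n, M' (n + 1) →ₗ[R] M' n)
    (hf : ∀ n, Function.Surjective (f n)) (hf' : ∀ n, Function.Surjective (f' n))
    (hk : ∀ n, LinearMap.ker (f n) = J ^ (n + 1) • ⊤) (hk' : ∀ n, LinearMap.ker (f' n) = J ^ (n + 1) • ⊤)
    (hkill : ∀ n, ∀ a ∈ J ^ (n + 1), ∀ x : M n, a • x = 0) (hkill' : ∀ n, ∀ a ∈ J ^ (n + 1), ∀ x : M' n, a • x = 0)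
    (hfin : ∀ n, Module.Finite R (M n)) (hfin' : ∀ n, Module.Finite R (M' n))
    (β : ∀ n, M n →ₗ[R] M' n) (hβ : ∀ n x, f' n (β (n + 1) x) = β n (f n x))
    :
    ∃ c, (∀ n (x : M (n + c)), β (n + c) x = 0 → ∃ y : (∀ i, M i), (∀ i, f i (y (i + 1)) = y i) ∧ (∀ i, β i (y i) = 0) ∧
        ∀ z : (∀ i, M i), (∀ i, f i (z (i + 1)) = z i) → z (n + c) = x → y n = z n) ∧
      ∀ n (y : ∀ i, M i), (∀ i, f i (y (i + 1)) = y i) → (∀ i, β i (y i) = 0) → y (n + c) = 0 →
        ∀ i, y i ∈ J ^ (n + 1) • Submodule.span R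
          {w : M i | ∃ z : (∀ j, M j), (∀ j, f j (z (j + 1)) = z j) ∧ (∀ j, β j (z j) = 0) ∧ z i = w} := by
  classical
  let S := AdicCompletion J R
  have hJfg : J.FG := IsNoetherian.noetherian J
  haveI : IsNoetherianRing S := ResExt.isNoetherianRing_adicCompletion J hJfg
  choose mM hmM using fun n => W7Exist.exists_completion_module J (n + 1) (M n) (hkill n)
  choose mM' hmM' using fun n => W7Exist.exists_completion_module J (n + 1) (M' n) (hkill' n)
  letI := mM
  letI := mM'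
  have hof : ∀ (T : ℕ → Type u) [∀ n, AddCommGroup (T n)] [∀ n, Module R (T n)] [∀ n, Module S (T n)],
      (∀ n (r : AdicCompletion.AdicCauchySequence J R) (x : T n), AdicCompletion.mk J R r • x = r.val (n + 1) • x) →
      ∀ n, IsScalarTower R S (T n) := fun T _ _ _ hT n => IsScalarTower.of_algebraMap_smul fun a x => by
    rw [show algebraMap R S a = AdicCompletion.mk J R ⟨fun _ => a, fun _ => rfl⟩ from rfl, hT]
  haveI := hof M hmM
  haveI := hof M' hmM'
  have hstep : ∀ (r : AdicCompletion.AdicCauchySequence J R) n, r.val (n + 1) - r.val (n + 1 + 1) ∈ J ^ (n + 1) :=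
    fun r n => by
      have := (r.property (Nat.le_succ (n + 1)))
      rwa [SModEq.sub_mem, smul_eq_mul, Ideal.mul_top] at this
  have hsemi : ∀ (T : ℕ → Type u) [∀ n, AddCommGroup (T n)] [∀ n, Module R (T n)] [∀ n, Module S (T n)],
      (∀ n (r : AdicCompletion.AdicCauchySequence J R) (x : T n), AdicCompletion.mk J R r • x = r.val (n + 1) • x) →
      (∀ n, ∀ a ∈ J ^ (n + 1), ∀ x : T n, a • x = 0) →
      ∀ (g : ∀ n, T (n + 1) →ₗ[R] T n) n (r : S) (x : T (n + 1)), g n (r • x) = r • g n x := by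
    intro T _ _ _ hT hTk g n r x
    obtain ⟨r, rfl⟩ := AdicCompletion.mk_surjective J R r
    rw [hT, hT, map_smul]
    rw [← sub_eq_zero, ← sub_smul, ← neg_sub, neg_smul, hTk n _ (hstep r n), neg_zero]
  have hlinβ : ∀ n (r : S) (x : M n), β n (r • x) = r • β n x := fun n r x => by
    obtain ⟨r, rfl⟩ := AdicCompletion.mk_surjective J R r
    rw [hmM, hmM', map_smul]
  let fS : ∀ n, M (n + 1) →ₗ[S] M n := fun n =>
    { toFun := f n, map_add' := map_add (f n), map_smul' := hsemi M hmM hkill f n }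
  let fS' : ∀ n, M' (n + 1) →ₗ[S] M' n := fun n =>
    { toFun := f' n, map_add' := map_add (f' n), map_smul' := hsemi M' hmM' hkill' f' n }
  let βS : ∀ n, M n →ₗ[S] M' n := fun n => { toFun := β n, map_add' := map_add (β n), map_smul' := hlinβ n }
  let L : Submodule S (∀ n, M n) := ⨅ n, LinearMap.ker (fS n ∘ₗ LinearMap.proj (n + 1) - LinearMap.proj n)
  let L' : Submodule S (∀ n, M' n) := ⨅ n, LinearMap.ker (fS' n ∘ₗ LinearMap.proj (n + 1) - LinearMap.proj n)
  have hmem : ∀ x : ∀ n, M n, x ∈ L ↔ ∀ n, f n (x (n + 1)) = x n := fun x => by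
    simp only [L, Submodule.mem_iInf, LinearMap.mem_ker, LinearMap.sub_apply, sub_eq_zero]
    rfl
  have hmem' : ∀ x : ∀ n, M' n, x ∈ L' ↔ ∀ n, f' n (x (n + 1)) = x n := fun x => by
    simp only [L', Submodule.mem_iInf, LinearMap.mem_ker, LinearMap.sub_apply, sub_eq_zero]
    rfl
  let π : ∀ n, L →ₗ[S] M n := fun n => LinearMap.proj n ∘ₗ L.subtype
  let π' : ∀ n, L' →ₗ[S] M' n := fun n => LinearMap.proj n ∘ₗ L'.subtype
  have hL : AdicLim.IsLimit fS π :=
    { comm := fun n => LinearMap.ext fun x => (hmem _).1 x.2 n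
      inj := fun x hx => Subtype.ext (funext hx)
      lift := fun y hy => ⟨⟨y, (hmem y).2 hy⟩, fun n => rfl⟩ }
  have hL' : AdicLim.IsLimit fS' π' :=
    { comm := fun n => LinearMap.ext fun x => (hmem' _).1 x.2 n
      inj := fun x hx => Subtype.ext (funext hx)
      lift := fun y hy => ⟨⟨y, (hmem' y).2 hy⟩, fun n => rfl⟩ }
  let JS := J.map (algebraMap R S)
  haveI : IsAdicComplete JS S :=
    (IsAdicComplete.map_algebraMap_iff _ _).2 (AdicCompletion.isAdicComplete hJfg)
  have htop : ∀ (T : Type u) [AddCommGroup T] [Module R T] [Module S T] [IsScalarTower R S T] (P : Ideal R) (x : T),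
      x ∈ ((P.map (algebraMap R S)) • ⊤ : Submodule S T) ↔ x ∈ (P • ⊤ : Submodule R T) := by
    intro T _ _ _ _ P x
    conv_rhs => rw [← Submodule.restrictScalars_top R S, ← Submodule.restrictScalars_map_smul_eq]
    rfl
  have hkS : ∀ n, LinearMap.ker (fS n) = JS ^ (n + 1) • ⊤ := fun n => SetLike.ext fun x => by
    rw [← Ideal.map_pow, htop, ← hk n]; rfl
  have hkS' : ∀ n, LinearMap.ker (fS' n) = JS ^ (n + 1) • ⊤ := fun n => SetLike.ext fun x => by
    rw [← Ideal.map_pow, htop, ← hk' n]; rfl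
  haveI : Module.Finite S (M 0) := haveI := hfin 0; Module.Finite.of_restrictScalars_finite R S (M 0)
  haveI : Module.Finite S (M' 0) := haveI := hfin' 0; Module.Finite.of_restrictScalars_finite R S (M' 0)
  obtain ⟨hLfin, hLker⟩ := hL.finite_and_ker_eq JS hf hkS
  obtain ⟨hLfin', hLker'⟩ := hL'.finite_and_ker_eq JS hf' hkS'
  let l : L →ₗ[S] L' := LinearMap.codRestrict L' ((LinearMap.pi fun n => βS n ∘ₗ LinearMap.proj n) ∘ₗ L.subtype)
    fun x => (hmem' _).2 fun n => (hβ n _).trans (congrArg (β n) ((hmem _).1 x.2 n))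
  obtain ⟨c₁, hc₁⟩ := JS.exists_pow_inf_eq_pow_smul (LinearMap.range l)
  obtain ⟨c₂, hc₂⟩ := JS.exists_pow_inf_eq_pow_smul (LinearMap.ker l)
  refine ⟨c₁ + c₂, fun n x hx => ?_, fun n y hy hyβ hy0 i => ?_⟩
  · obtain ⟨z, hz⟩ := hL.surjective hf (n + (c₁ + c₂)) x
    have hz' : (z : ∀ i, M i) (n + (c₁ + c₂)) = x := hz
    have h1 : l z ∈ JS ^ (n + (c₁ + c₂) + 1) • (⊤ : Submodule S L') := by
      rw [← hLker' (n + (c₁ + c₂))]
      change β _ ((z : ∀ i, M i) (n + (c₁ + c₂))) = 0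
      rw [hz', hx]
    have h2 : l z ∈ JS ^ (n + (c₁ + c₂) + 1) • (⊤ : Submodule S L') ⊓ LinearMap.range l := ⟨h1, z, rfl⟩
    rw [hc₁ _ (by omega)] at h2
    have h3 : l z ∈ (JS ^ (n + 1) • (⊤ : Submodule S L)).map l := by
      rw [Submodule.map_smul'', Submodule.map_top]
      exact Submodule.smul_mono (Ideal.pow_le_pow_right (by omega)) inf_le_right h2
    obtain ⟨w, hw, hlw⟩ := h3
    have hk0 : l (z - w) = 0 := by rw [map_sub, hlw, sub_self]
    refine ⟨((z - w : L) : ∀ i, M i), (hmem _).1 (z - w).2, fun i => congrFun (congrArg Subtype.val hk0) i,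
      fun u hu hux => ?_⟩
    have hw0 : π n w = 0 := LinearMap.mem_ker.1 ((hLker n).ge hw)
    have hzu : π (n + (c₁ + c₂)) (z - ⟨u, (hmem u).2 hu⟩) = 0 := by
      rw [map_sub, sub_eq_zero]
      exact hz.trans hux.symm
    have hzu' : π n z = π n ⟨u, (hmem u).2 hu⟩ := by
      rw [← sub_eq_zero, ← map_sub]
      exact hL.ker_le (Nat.le_add_right n (c₁ + c₂)) hzu
    change π n (z - w) = u n
    rw [map_sub, hw0, sub_zero, hzu']
    rfl
  · let yL : L := ⟨y, (hmem y).2 hy⟩
    have hyk : yL ∈ LinearMap.ker l := Subtype.ext (funext hyβ)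
    have h1 : yL ∈ JS ^ (n + (c₁ + c₂) + 1) • (⊤ : Submodule S L) := (hLker _).le hy0
    have h2 : yL ∈ JS ^ (n + (c₁ + c₂) + 1) • (⊤ : Submodule S L) ⊓ LinearMap.ker l := ⟨h1, hyk⟩
    rw [hc₂ _ (by omega)] at h2
    have h3 : yL ∈ JS ^ (n + 1) • LinearMap.ker l :=
      Submodule.smul_mono (Ideal.pow_le_pow_right (by omega)) inf_le_right h2
    let W : Submodule R (M i) := J ^ (n + 1) • Submodule.span R
      {w : M i | ∃ z : (∀ j, M j), (∀ j, f j (z (j + 1)) = z j) ∧ (∀ j, β j (z j) = 0) ∧ z i = w}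
    suffices h : ∀ z ∈ JS ^ (n + 1) • LinearMap.ker l, π i z ∈ W from h yL h3
    intro z hz
    refine Submodule.smul_induction_on (p := fun z => π i z ∈ W) hz (fun s hs v hv => ?_)
      fun a b ha hb => by rw [map_add]; exact W.add_mem ha hb
    rw [← Ideal.map_pow] at hs
    revert v
    refine Submodule.span_induction (p := fun s _ => ∀ v ∈ LinearMap.ker l, π i (s • v) ∈ W) ?_ ?_ ?_ ?_ hs
    · rintro _ ⟨a, ha, rfl⟩ v hv
      rw [map_smul, algebraMap_smul]
      exact Submodule.smul_mem_smul ha (Submodule.subset_span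
        ⟨(v : ∀ j, M j), (hmem _).1 v.2, fun j => congrFun (congrArg Subtype.val hv) j, rfl⟩)
    · intro v _
      rw [zero_smul, map_zero]
      exact W.zero_mem
    · intro a b _ _ ha hb v hv
      rw [add_smul, map_add]
      exact W.add_mem (ha v hv) (hb v hv)
    · intro r a _ ha v hv
      rw [smul_eq_mul, mul_comm, mul_smul]
      exact ha (r • v) ((LinearMap.ker l).smul_mem r hv)

end Groth.Agent.FormKer
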